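import Mathlib.FieldTheory.IsSepClosed
import Mathlib.LinearAlgebra.Basis.VectorSpace
import Mathlib.LinearAlgebra.Dimension.Finite
import Mathlib.LinearAlgebra.FiniteDimensional.Lemmas
import Mathlib.LinearAlgebra.Quotient.Basic
import Mathlib.Algebra.CharP.Frobenius
import Mathlib.FieldTheory.Separable
import Mathlib.LinearAlgebra.Dimension.OrzechProperty

/-!
# Lang's theorem for `q`-linear endomorphisms over a separably closed field
-/

set_option autoImplicit false
universe u v

namespace Groth.Agent.Lib.Helper24.QLin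

open Polynomial Module

section poly

variable {k : Type u} [Field k] (q : ℕ) (a : ℕ → k)

/-- the additive polynomials `Y_i` -/
noncomputable def Y : ℕ → k[X]
  | 0 => C (a 0) * X ^ q
  | (i + 1) => (Y i) ^ q + C (a (i + 1)) * X ^ q

/-- the coefficients `x_i(t)` -/
def xs (t : k) : ℕ → k
  | 0 => a 0 * t ^ q
  | (i + 1) => (xs t i) ^ q + a (i + 1) * t ^ q

theorem eval_Y (t : k) (i : ℕ) : eval t (Y q a i) = xs q a t i := by
  induction i with
  | zero => simp [Y, xs]
  | succ i ih => simp [Y, xs, ih]

variable {q}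

theorem derivative_Y (hq : (q : k) = 0) (i : ℕ) : derivative (Y q a i) = 0 := by
  have hq' : (q : k[X]) = 0 := by
    rw [← map_natCast (C : k →+* k[X]), hq, map_zero]
  induction i with
  | zero =>
    rw [Y, derivative_C_mul, derivative_X_pow, map_natCast, hq', zero_mul, mul_zero]
  | succ i ih =>
    rw [Y, derivative_add, derivative_pow, derivative_C_mul, derivative_X_pow, map_natCast,
      hq', zero_mul, zero_mul, zero_mul, mul_zero, add_zero]

theorem Y_ne_zero (hq2 : 2 ≤ q) (i : ℕ) :
    (Y q a i = 0 ∨ q ≤ (Y q a i).natDegree) ∧ ((∃ j ≤ i, a j ≠ 0) → Y q a i ≠ 0) := by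
  induction i with
  | zero =>
    by_cases h0 : a 0 = 0
    · refine ⟨Or.inl (by simp [Y, h0]), ?_⟩
      rintro ⟨j, hj, hne⟩
      have : j = 0 := by omega
      rw [this] at hne
      exact absurd h0 hne
    · have hdeg : (Y q a 0).natDegree = q := by
        rw [Y]; exact natDegree_C_mul_X_pow q (a 0) h0
      refine ⟨Or.inr hdeg.ge, fun _ => ?_⟩
      intro hY
      rw [hY, natDegree_zero] at hdeg
      omega
  | succ i ih =>
    obtain ⟨ih1, ih2⟩ := ih
    by_cases hYi : Y q a i = 0
    · have hY : Y q a (i + 1) = C (a (i + 1)) * X ^ q := by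
        rw [Y, hYi, zero_pow (by omega), zero_add]
      by_cases h0 : a (i + 1) = 0
      · refine ⟨Or.inl (by rw [hY, h0, map_zero, zero_mul]), ?_⟩
        rintro ⟨j, hj, hne⟩
        rcases Nat.lt_or_ge j (i + 1) with hlt | hge
        · exact absurd hYi (ih2 ⟨j, by omega, hne⟩)
        · have : j = i + 1 := by omega
          rw [this] at hne
          exact absurd h0 hne
      · have hdeg : (Y q a (i + 1)).natDegree = q := by
          rw [hY]; exact natDegree_C_mul_X_pow q _ h0
        refine ⟨Or.inr hdeg.ge, fun _ hY0 => ?_⟩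
        rw [hY0, natDegree_zero] at hdeg
        omega
    · have hd : q ≤ (Y q a i).natDegree := ih1.resolve_left hYi
      have hdegpow : ((Y q a i) ^ q).natDegree = q * (Y q a i).natDegree := natDegree_pow _ _
      have hlt : (C (a (i + 1)) * X ^ q).natDegree < ((Y q a i) ^ q).natDegree := by
        calc (C (a (i + 1)) * X ^ q).natDegree ≤ q := natDegree_C_mul_X_pow_le _ _
          _ < q * q := by nlinarith
          _ ≤ q * (Y q a i).natDegree := Nat.mul_le_mul_left q hd
          _ = _ := hdegpow.symm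
      have hdeg : (Y q a (i + 1)).natDegree = q * (Y q a i).natDegree := by
        rw [Y, natDegree_add_eq_left_of_natDegree_lt hlt, hdegpow]
      have hge : q ≤ (Y q a (i + 1)).natDegree := by
        rw [hdeg]
        calc q ≤ q * q := by nlinarith
          _ ≤ _ := Nat.mul_le_mul_left q hd
      refine ⟨Or.inr hge, fun _ hY0 => ?_⟩
      rw [hY0, natDegree_zero] at hge
      omega

/-- existence of a nonzero root of `Y_i - X` -/
theorem exists_root [IsSepClosed k] (hq : (q : k) = 0) (hq2 : 2 ≤ q) (i : ℕ)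
    (hne : ∃ j ≤ i, a j ≠ 0) : ∃ t : k, t ≠ 0 ∧ xs q a t i = t := by
  have hY := Y_ne_zero a hq2 i
  have hYne : Y q a i ≠ 0 := hY.2 hne
  have hYdeg : q ≤ (Y q a i).natDegree := hY.1.resolve_left hYne
  set P : k[X] := Y q a i - X with hP
  have hPdeg : P.natDegree = (Y q a i).natDegree := by
    rw [hP]
    apply natDegree_sub_eq_left_of_natDegree_lt
    rw [natDegree_X]; omega
  have hP0 : P ≠ 0 := by
    intro h0; rw [h0, natDegree_zero] at hPdeg; omega
  have hPsep : P.Separable := by
    rw [separable_def, hP, derivative_sub, derivative_Y a hq, derivative_X, zero_sub]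
    exact ⟨0, -1, by ring⟩
  have hXdvd : X ∣ P := by
    rw [X_dvd_iff, hP, coeff_sub, coeff_X_zero, sub_zero, coeff_zero_eq_eval_zero, eval_Y]
    have hq0 : q ≠ 0 := by omega
    have h0 : ∀ j, xs q a (0 : k) j = 0 := by
      intro j
      induction j with
      | zero => rw [xs, zero_pow hq0, mul_zero]
      | succ j ih => rw [xs, ih, zero_pow hq0, mul_zero, add_zero]
    exact h0 _
  obtain ⟨Q, hQ⟩ := hXdvd
  have hQ0 : Q ≠ 0 := by
    intro h0; rw [h0, mul_zero] at hQ; exact hP0 hQ
  have hQsep : Q.Separable := by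
    rw [hQ] at hPsep
    exact hPsep.of_mul_right
  have hQdeg : Q.degree ≠ 0 := by
    have h1 : P.natDegree = 1 + Q.natDegree := by
      rw [hQ, natDegree_mul X_ne_zero hQ0, natDegree_X]
    intro h0
    have h2 : Q.natDegree = 0 := natDegree_eq_zero_iff_degree_le_zero.mpr h0.le
    omega
  obtain ⟨t, ht⟩ := IsSepClosed.exists_root Q hQdeg hQsep
  refine ⟨t, ?_, ?_⟩
  · intro ht0
    rw [ht0] at ht
    have h1 : X ∣ Q := by
      rw [X_dvd_iff, coeff_zero_eq_eval_zero]; exact ht
    obtain ⟨Q', hQ'⟩ := h1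
    have h2 : X * X ∣ P := ⟨Q', by rw [hQ, hQ', mul_assoc]⟩
    have h3 := hPsep.squarefree X h2
    exact not_isUnit_X h3
  · have h1 : eval t P = 0 := by
      rw [hQ, eval_mul, ht, mul_zero]
    rw [hP, eval_sub, eval_X, eval_Y, sub_eq_zero] at h1
    exact h1

end poly

section semilinear

variable {k : Type u} [Field k] {q : ℕ} {σ : k →+* k} (hσ : ∀ c, σ c = c ^ q)
  {V : Type v} [AddCommGroup V] [Module k V] [FiniteDimensional k V]
  (Φ : V →ₛₗ[σ] V) (hss : Submodule.span k (Set.range Φ) = ⊤)

include hσ hss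

theorem injective (hq0 : q ≠ 0) : Function.Injective Φ := by
  classical
  let b := Module.finBasis k V
  have hspan : ⊤ ≤ Submodule.span k (Set.range (Φ ∘ b)) := by
    rw [← hss]
    apply Submodule.span_le.mpr
    rintro _ ⟨v, rfl⟩
    have hv : v = ∑ i, b.repr v i • b i := (b.sum_repr v).symm
    rw [hv, map_sum]
    apply Submodule.sum_mem
    intro i _
    rw [map_smulₛₗ]
    exact Submodule.smul_mem _ _ (Submodule.subset_span ⟨i, rfl⟩)
  have hli : LinearIndependent k (Φ ∘ b) :=
    linearIndependent_of_top_le_span_of_card_eq_finrank hspan (by simp)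
  rw [injective_iff_map_eq_zero]
  intro v hv
  have hv' : v = ∑ i, b.repr v i • b i := (b.sum_repr v).symm
  rw [hv', map_sum] at hv
  simp only [map_smulₛₗ] at hv
  have h1 := Fintype.linearIndependent_iff.1 hli (fun i => σ (b.repr v i)) hv
  have h2 : ∀ i, b.repr v i = 0 := by
    intro i
    have := h1 i
    rw [hσ] at this
    exact pow_eq_zero_iff hq0 |>.mp this
  apply b.repr.injective
  ext i
  rw [h2 i]; simp

theorem exists_fixed [IsSepClosed k] [Nontrivial V] (hq : (q : k) = 0) (hq2 : 2 ≤ q) :
    ∃ w : V, w ≠ 0 ∧ Φ w = w := by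
  classical
  have hinj := injective hσ Φ hss (by omega)
  obtain ⟨v, hv⟩ := exists_ne (0 : V)
  let u : ℕ → V := fun i => Φ^[i] v
  have hu_succ : ∀ i, Φ (u i) = u (i + 1) := fun i => (Function.iterate_succ_apply' Φ i v).symm
  have hu_ne : ∀ i, u i ≠ 0 := by
    intro i h0
    have h1 : Φ^[i] v = Φ^[i] 0 := by
      rw [show Φ^[i] v = 0 from h0]
      exact (iterate_map_zero Φ i).symm
    exact hv ((hinj.iterate i) h1)
  -- independence until the first dependent iterate
  have hex : ∃ m, u m ∈ Submodule.span k (Set.range (fun i : Fin m => u i)) := by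
    by_contra hno
    push_neg at hno
    have hall : ∀ m, LinearIndependent k (fun i : Fin m => u i) := by
      intro m
      induction m with
      | zero => exact linearIndependent_empty_type
      | succ m ih =>
        have h1 : (fun i : Fin (m + 1) => u i) = Fin.snoc (fun i : Fin m => u i) (u m) := by
          funext i
          refine Fin.lastCases ?_ (fun j => ?_) i
          · simp
          · simp
        rw [h1, linearIndependent_finSnoc]
        exact ⟨ih, hno m⟩
    have := (hall (finrank k V + 1)).fintype_card_le_finrank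
    simp at this
  let m := Nat.find hex
  have hm : u m ∈ Submodule.span k (Set.range (fun i : Fin m => u i)) := Nat.find_spec hex
  have hmin : ∀ j < m, u j ∉ Submodule.span k (Set.range (fun i : Fin j => u i)) :=
    fun j hj => Nat.find_min hex hj
  have hind : LinearIndependent k (fun i : Fin m => u i) := by
    have hall : ∀ j ≤ m, LinearIndependent k (fun i : Fin j => u i) := by
      intro j
      induction j with
      | zero => intro _; exact linearIndependent_empty_type
      | succ j ih =>
        intro hj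
        have h1 : (fun i : Fin (j + 1) => u i) = Fin.snoc (fun i : Fin j => u i) (u j) := by
          funext i
          refine Fin.lastCases ?_ (fun l => ?_) i
          · simp
          · simp
        rw [h1, linearIndependent_finSnoc]
        exact ⟨ih (by omega), hmin j (by omega)⟩
    exact hall m le_rfl
  have hmpos : 0 < m := by
    rcases Nat.eq_zero_or_pos m with h0 | hpos
    · exfalso
      have hm' := hm
      rw [h0] at hm'
      have : Set.range (fun i : Fin 0 => u i) = ∅ := Set.range_eq_empty _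
      rw [this, Submodule.span_empty, Submodule.mem_bot] at hm'
      exact hu_ne 0 hm'
    · exact hpos
  obtain ⟨m', hm'⟩ : ∃ m', m = m' + 1 := ⟨m - 1, by omega⟩
  obtain ⟨c, hc⟩ := (Submodule.mem_span_range_iff_exists_fun k).1 hm
  let a : ℕ → k := fun i => if h : i < m then c ⟨i, h⟩ else 0
  have hum : u m = ∑ i ∈ Finset.range m, a i • u i := by
    rw [← hc, ← Fin.sum_univ_eq_sum_range (fun i => a i • u i) m]
    apply Finset.sum_congr rfl
    intro i _
    simp [a]
  have hane : ∃ j ≤ m', a j ≠ 0 := by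
    by_contra hno
    push_neg at hno
    apply hu_ne m
    rw [hum]
    apply Finset.sum_eq_zero
    intro i hi
    rw [Finset.mem_range] at hi
    rw [hno i (by omega), zero_smul]
  obtain ⟨t, ht0, ht⟩ := exists_root a hq hq2 m' hane
  let x := xs q a t
  have hx0 : x 0 = a 0 * t ^ q := rfl
  have hxs : ∀ i, x (i + 1) = (x i) ^ q + a (i + 1) * t ^ q := fun i => rfl
  refine ⟨∑ i ∈ Finset.range m, x i • u i, ?_, ?_⟩
  · intro h0
    rw [← Fin.sum_univ_eq_sum_range (fun i => x i • u i) m] at h0
    have h1 := Fintype.linearIndependent_iff.1 hind (fun i => x i) h0 ⟨m', by omega⟩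
    exact ht0 (by rw [← ht]; exact h1)
  · rw [map_sum]
    simp only [map_smulₛₗ, hσ, hu_succ]
    rw [hm', Finset.sum_range_succ, Finset.sum_range_succ' (fun i => x i • u i)]
    have hum' : u (m' + 1) = ∑ i ∈ Finset.range m', a (i + 1) • u (i + 1) + a 0 • u 0 := by
      rw [← hm', hum, hm', Finset.sum_range_succ' (fun i => a i • u i)]
    have hxm : x m' = t := ht
    rw [hum', hxm, smul_add, Finset.smul_sum, ← add_assoc, ← Finset.sum_add_distrib, hx0]
    congr 1
    · apply Finset.sum_congr rfl
      intro i _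
      rw [hxs, add_smul, smul_smul, mul_comm]
    · rw [smul_smul, mul_comm]

end semilinear

section main

variable {k : Type u} [Field k] [IsSepClosed k] {q : ℕ} {σ : k →+* k} (hσ : ∀ c, σ c = c ^ q)
  {V : Type v} [AddCommGroup V] [Module k V] [FiniteDimensional k V]
  (Φ : V →ₛₗ[σ] V) (hss : Submodule.span k (Set.range Φ) = ⊤)

include hσ hss

theorem span_fixed_eq_top (hq : (q : k) = 0) (hq2 : 2 ≤ q) :
    Submodule.span k {w : V | Φ w = w} = ⊤ := by
  classical
  set U : Submodule k V := Submodule.span k {w : V | Φ w = w} with hU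
  by_contra hne
  have hlt : U < ⊤ := lt_top_iff_ne_top.mpr hne
  haveI : Nontrivial (V ⧸ U) := Submodule.Quotient.nontrivial_iff.mpr hlt.ne
  have hUΦ : U ≤ U.comap Φ := by
    rw [hU]
    apply Submodule.span_le.mpr
    intro w hw
    show Φ w ∈ U
    rw [show Φ w = w from hw]
    exact Submodule.subset_span hw
  let Φbar : (V ⧸ U) →ₛₗ[σ] (V ⧸ U) := U.mapQ U Φ hUΦ
  have hΦbar : ∀ v, Φbar (U.mkQ v) = U.mkQ (Φ v) := fun v => rfl
  have hssbar : Submodule.span k (Set.range Φbar) = ⊤ := by
    rw [eq_top_iff]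
    have h1 : (⊤ : Submodule k (V ⧸ U)) = Submodule.map U.mkQ (Submodule.span k (Set.range Φ)) := by
      rw [hss, Submodule.map_top, Submodule.range_mkQ]
    rw [h1, Submodule.map_span]
    apply Submodule.span_mono
    rintro _ ⟨_, ⟨v, rfl⟩, rfl⟩
    exact ⟨U.mkQ v, hΦbar v⟩
  obtain ⟨wbar, hwbar0, hwbar⟩ := exists_fixed hσ Φbar hssbar hq hq2
  obtain ⟨w, rfl⟩ := U.mkQ_surjective wbar
  have hdiff : Φ w - w ∈ U := by
    rw [← Submodule.Quotient.mk_eq_zero, Submodule.Quotient.mk_sub]
    show Φbar (U.mkQ w) - U.mkQ w = 0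
    rw [hwbar, sub_self]
  -- solve `Φ y - y = -(Φ w - w)` inside `U`
  have hsolve : ∀ d ∈ U, ∃ y ∈ U, Φ y - y = d := by
    intro d hd
    induction hd using Submodule.closure_induction with
    | zero => exact ⟨0, U.zero_mem, by simp⟩
    | add d₁ d₂ _ _ ih₁ ih₂ =>
      obtain ⟨y₁, hy₁, e₁⟩ := ih₁
      obtain ⟨y₂, hy₂, e₂⟩ := ih₂
      exact ⟨y₁ + y₂, U.add_mem hy₁ hy₂, by rw [map_add, ← e₁, ← e₂]; abel⟩
    | smul_mem c f hf =>
      -- root of `X^q - X - c`
      have hsep : (X ^ q - X - C c : k[X]).Separable := by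
        rw [separable_def]
        refine ⟨0, -1, ?_⟩
        have hq' : (q : k[X]) = 0 := by
          rw [← map_natCast (C : k →+* k[X]), hq, map_zero]
        rw [derivative_sub, derivative_sub, derivative_X_pow, derivative_X, derivative_C,
          map_natCast, hq']
        ring
      have hdeg : (X ^ q - X - C c : k[X]).degree ≠ 0 := by
        have h1 : (X ^ q - X - C c : k[X]) = X ^ q - (X + C c) := by ring
        have h2 : (X + C c : k[X]).degree < (X ^ q : k[X]).degree := by
          rw [degree_X_pow, degree_X_add_C]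
          exact_mod_cast hq2
        rw [h1, degree_sub_eq_left_of_degree_lt h2, degree_X_pow]
        intro h0
        have : (q : WithBot ℕ) = 0 := h0
        have : q = 0 := by exact_mod_cast this
        omega
      obtain ⟨s, hs⟩ := IsSepClosed.exists_root _ hdeg hsep
      simp only [IsRoot.def, eval_sub, eval_pow, eval_X, eval_C] at hs
      refine ⟨s • f, U.smul_mem s (Submodule.subset_span hf), ?_⟩
      rw [map_smulₛₗ, hσ, show Φ f = f from hf, ← sub_smul]
      congr 1
      linear_combination hs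
  obtain ⟨y, hyU, hy⟩ := hsolve (-(Φ w - w)) (U.neg_mem hdiff)
  have hfix : Φ (w + y) = w + y := by
    rw [map_add]
    have : Φ y = y - (Φ w - w) := by
      have h1 : Φ y = y + (Φ y - y) := by abel
      rw [h1, hy]; abel
    rw [this]; abel
  have hmem : w + y ∈ U := Submodule.subset_span hfix
  apply hwbar0
  have h1 : U.mkQ (w + y) = 0 := (Submodule.Quotient.mk_eq_zero U).mpr hmem
  have h2 : U.mkQ y = 0 := (Submodule.Quotient.mk_eq_zero U).mpr hyU
  rw [map_add, h2, add_zero] at h1
  exact h1

theorem exists_basis (hq : (q : k) = 0) (hq2 : 2 ≤ q) :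
    ∃ b : Module.Basis (Fin (Module.finrank k V)) k V, (∀ i, Φ (b i) = b i) ∧
      ∀ v : V, Φ v = v → ∀ i, (b.repr v i) ^ q = b.repr v i := by
  classical
  have hspan : ⊤ ≤ Submodule.span k {w : V | Φ w = w} :=
    (span_fixed_eq_top hσ Φ hss hq hq2).ge
  let b₀ := Module.Basis.ofSpan hspan
  haveI := FiniteDimensional.fintypeBasisIndex b₀
  have hcard : Fintype.card _ = Module.finrank k V := (Module.finrank_eq_card_basis b₀).symm
  let b := b₀.reindex (Fintype.equivFinOfCardEq hcard)
  have hbfix : ∀ i, Φ (b i) = b i := by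
    intro i
    have h1 : b i ∈ Set.range b₀ := by
      rw [Module.Basis.reindex_apply]
      exact ⟨_, rfl⟩
    exact Module.Basis.ofSpan_subset hspan h1
  refine ⟨b, hbfix, ?_⟩
  intro v hv i
  have h1 : v = ∑ j, b.repr v j • b j := (b.sum_repr v).symm
  have h2 : Φ v = ∑ j, (b.repr v j) ^ q • b j := by
    conv_lhs => rw [h1, map_sum]
    apply Finset.sum_congr rfl
    intro j _
    rw [map_smulₛₗ, hσ, hbfix]
  rw [hv] at h2
  have h3 := congrArg (fun w => b.repr w i) h2
  simp only [map_sum, map_smul, Module.Basis.repr_self, Finsupp.smul_single, smul_eq_mul, mul_one,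
    Finsupp.coe_finset_sum, Finset.sum_apply, Finsupp.single_apply, Finset.sum_ite_eq',
    Finset.mem_univ, if_true] at h3
  exact h3.symm

end main

theorem main (k : Type u) [Field k] [IsSepClosed k] (p : ℕ)
    [Fact p.Prime] [CharP k p] (r : ℕ) (hr : 0 < r) (V : Type v) [AddCommGroup V] [Module k V]
    [FiniteDimensional k V] (φ : V →+ V) (hφ : ∀ (c : k) (v : V), φ (c • v) = c ^ (p ^ r) • φ v)
    (hss : Submodule.span k (Set.range φ) = ⊤) :
    ∃ b : Module.Basis (Fin (Module.finrank k V)) k V, (∀ i, φ (b i) = b i) ∧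
      ∀ v : V, φ v = v → ∀ i, (b.repr v i) ^ (p ^ r) = b.repr v i := by
  haveI : ExpChar k p := ExpChar.prime Fact.out
  let σ : k →+* k := iterateFrobenius k p r
  have hσ : ∀ c, σ c = c ^ (p ^ r) := fun c => rfl
  let Φ : V →ₛₗ[σ] V :=
    { toFun := φ
      map_add' := φ.map_add
      map_smul' := by
        intro c v
        show φ (c • v) = σ c • φ v
        rw [hφ, hσ] }
  have hΦ : ∀ v, Φ v = φ v := fun v => rfl
  have hss' : Submodule.span k (Set.range Φ) = ⊤ := by
    have : Set.range Φ = Set.range φ := rfl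
    rw [this]; exact hss
  have hp : (p : k) = 0 := CharP.cast_eq_zero k p
  have hq : ((p ^ r : ℕ) : k) = 0 := by
    rw [Nat.cast_pow, hp, zero_pow hr.ne']
  have hq2 : 2 ≤ p ^ r := by
    calc 2 ≤ p := (Fact.out : p.Prime).two_le
      _ = p ^ 1 := (pow_one p).symm
      _ ≤ p ^ r := Nat.pow_le_pow_right (Fact.out : p.Prime).pos hr
  obtain ⟨b, hb1, hb2⟩ := exists_basis hσ Φ hss' hq hq2
  exact ⟨b, hb1, hb2⟩

end Groth.Agent.Lib.Helper24.QLin
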