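import Groth.Agent.Lib.Helper24.QLin.Lang
import Mathlib.RingTheory.Artinian.Module

/-!
# Consequences of Lang's theorem for `q`-linear endomorphisms
-/

set_option autoImplicit false
universe u v

namespace Groth.Agent.Lib.Helper24.QLin

open Module

section

variable {k : Type u} [Field k] {q : ℕ} {σ : k →+* k} (hσ : ∀ c, σ c = c ^ q)
  {V : Type v} [AddCommGroup V] [Module k V] (Φ : V →ₛₗ[σ] V)

include hσ

theorem iterate_smul (n : ℕ) (c : k) (v : V) : Φ^[n] (c • v) = c ^ (q ^ n) • Φ^[n] v := by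
  induction n with
  | zero => simp
  | succ n ih =>
    rw [Function.iterate_succ_apply', Function.iterate_succ_apply', ih, map_smulₛₗ, hσ, ← pow_mul,
      pow_succ]

theorem iterate_add (n : ℕ) (v w : V) : Φ^[n] (v + w) = Φ^[n] v + Φ^[n] w := by
  induction n with
  | zero => simp
  | succ n ih => rw [Function.iterate_succ_apply', Function.iterate_succ_apply',
      Function.iterate_succ_apply', ih, map_add]

theorem iterate_sum {ι : Type*} (n : ℕ) (s : Finset ι) (f : ι → V) :
    Φ^[n] (∑ i ∈ s, f i) = ∑ i ∈ s, Φ^[n] (f i) := by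
  classical
  induction s using Finset.induction_on with
  | empty => simp [iterate_map_zero]
  | insert x s hx ih => rw [Finset.sum_insert hx, Finset.sum_insert hx, iterate_add hσ, ih]

end

section iter

variable {k : Type u} [Field k] [IsSepClosed k] {q : ℕ} {σ : k →+* k} (hσ : ∀ c, σ c = c ^ q)
  {V : Type v} [AddCommGroup V] [Module k V] [FiniteDimensional k V]
  (Φ : V →ₛₗ[σ] V) (hss : Submodule.span k (Set.range Φ) = ⊤)

include hσ hss

theorem fixed_iterate_iff (hq : (q : k) = 0) (hq2 : 2 ≤ q) (n : ℕ) (v : V) :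
    Φ^[n] v = v ↔ ∃ (s : Finset V) (c : V → k), (∀ w ∈ s, Φ w = w) ∧
      (∀ w ∈ s, c w ^ (q ^ n) = c w) ∧ v = ∑ w ∈ s, c w • w := by
  classical
  constructor
  · intro hv
    obtain ⟨b, hb, -⟩ := exists_basis hσ Φ hss hq hq2
    have h1 : v = ∑ j, b.repr v j • b j := (b.sum_repr v).symm
    have h2 : Φ^[n] v = ∑ j, (b.repr v j) ^ (q ^ n) • b j := by
      conv_lhs => rw [h1, iterate_sum hσ]
      apply Finset.sum_congr rfl
      intro j _
      rw [iterate_smul hσ, Function.iterate_fixed (hb j) n]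
    rw [hv] at h2
    have h3 : ∀ i, (b.repr v i) ^ (q ^ n) = b.repr v i := by
      intro i
      have h4 := congrArg (fun w => b.repr w i) h2
      simp only [map_sum, map_smul, Module.Basis.repr_self, Finsupp.smul_single, smul_eq_mul,
        mul_one, Finsupp.coe_finset_sum, Finset.sum_apply, Finsupp.single_apply,
        Finset.sum_ite_eq', Finset.mem_univ, if_true] at h4
      exact h4.symm
    let c : V → k := fun w => if h : ∃ i, b i = w then b.repr v (Classical.choose h) else 0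
    have hc : ∀ i, c (b i) = b.repr v i := by
      intro i
      have h : ∃ j, b j = b i := ⟨i, rfl⟩
      have hj : Classical.choose h = i := b.injective (Classical.choose_spec h)
      simp only [c, dif_pos h, hj]
    refine ⟨Finset.univ.image b, c, ?_, ?_, ?_⟩
    · intro w hw
      obtain ⟨i, -, rfl⟩ := Finset.mem_image.mp hw
      exact hb i
    · intro w hw
      obtain ⟨i, -, rfl⟩ := Finset.mem_image.mp hw
      rw [hc, h3]
    · rw [Finset.sum_image (fun i _ j _ h => b.injective h)]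
      conv_lhs => rw [h1]
      apply Finset.sum_congr rfl
      intro i _
      rw [hc]
  · rintro ⟨s, c, hs, hc, rfl⟩
    rw [iterate_sum hσ]
    apply Finset.sum_congr rfl
    intro w hw
    rw [iterate_smul hσ, Function.iterate_fixed (hs w hw) n, hc w hw]

end iter

section ss

variable {k : Type u} [Field k] [IsSepClosed k] {q : ℕ} {σ : k →+* k} (hσ : ∀ c, σ c = c ^ q)
  {V : Type v} [AddCommGroup V] [Module k V] [FiniteDimensional k V]
  (Φ : V →ₛₗ[σ] V)

/-- the chain of spans of images of iterates -/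
def W (n : ℕ) : Submodule k V := Submodule.span k (Set.range (Φ^[n + 1]))

theorem W_succ_le (n : ℕ) : W Φ (n + 1) ≤ W Φ n := by
  apply Submodule.span_mono
  rintro _ ⟨v, rfl⟩
  exact ⟨Φ v, (Function.iterate_succ_apply Φ (n + 1) v).symm⟩

theorem W_antitone : Antitone (W Φ) := antitone_nat_of_succ_le (W_succ_le Φ)

theorem map_W (n : ℕ) : W Φ n ≤ (W Φ (n + 1)).comap Φ := by
  apply Submodule.span_le.mpr
  rintro _ ⟨v, rfl⟩
  show Φ (Φ^[n + 1] v) ∈ W Φ (n + 1)
  rw [← Function.iterate_succ_apply' Φ (n + 1) v]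
  exact Submodule.subset_span ⟨v, rfl⟩

include hσ

theorem semisimple_part (hq : (q : k) = 0) (hq2 : 2 ≤ q) :
    ∃ b : Module.Basis (Fin (Module.finrank k ↥(⨅ n : ℕ, W Φ n))) k ↥(⨅ n : ℕ, W Φ n),
      (∀ i, Φ (b i : V) = (b i : V)) ∧
      ∀ v : V, Φ v = v → ∃ c : Fin (Module.finrank k ↥(⨅ n : ℕ, W Φ n)) → k,
        (∀ i, c i ^ q = c i) ∧ v = ∑ i, c i • (b i : V) := by
  classical
  -- stabilisation
  obtain ⟨N, hN⟩ := IsArtinian.monotone_stabilizes
    (⟨fun n => OrderDual.toDual (W Φ n), fun a b hab => W_antitone Φ hab⟩ :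
      ℕ →o (Submodule k V)ᵒᵈ)
  have hN' : ∀ m, N ≤ m → W Φ N = W Φ m := fun m hm => congrArg OrderDual.ofDual (hN m hm)
  have hVss : (⨅ n : ℕ, W Φ n) = W Φ N := by
    apply le_antisymm (iInf_le _ N)
    apply le_iInf
    intro n
    rcases le_total n N with h | h
    · exact W_antitone Φ h
    · exact (hN' n h).le
  set Vss : Submodule k V := ⨅ n : ℕ, W Φ n with hVssdef
  have hmaps : ∀ x ∈ Vss, Φ x ∈ Vss := by
    intro x hx
    rw [hVss] at hx ⊢
    have h1 := map_W Φ N hx
    rw [hN' (N + 1) (by omega)]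
    exact h1
  let Ψ : Vss →ₛₗ[σ] Vss := (Φ.domRestrict Vss).codRestrict Vss (fun x => hmaps x.1 x.2)
  have hΨ : ∀ x : Vss, ((Ψ x : Vss) : V) = Φ (x : V) := fun x => rfl
  have hssΨ : Submodule.span k (Set.range Ψ) = ⊤ := by
    apply Submodule.map_injective_of_injective Vss.injective_subtype
    rw [Submodule.map_subtype_top]
    apply le_antisymm (Submodule.map_subtype_le _ _)
    rw [Submodule.map_span]
    conv_lhs => rw [hVss, hN' (N + 1) (by omega)]
    apply Submodule.span_mono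
    rintro _ ⟨v, rfl⟩
    have hmem : Φ^[N + 1] v ∈ Vss := by
      rw [hVss]; exact Submodule.subset_span ⟨v, rfl⟩
    refine ⟨Ψ ⟨Φ^[N + 1] v, hmem⟩, ⟨_, rfl⟩, ?_⟩
    show Φ (Φ^[N + 1] v) = Φ^[N + 1 + 1] v
    exact (Function.iterate_succ_apply' Φ (N + 1) v).symm
  obtain ⟨b, hb1, hb2⟩ := exists_basis hσ Ψ hssΨ hq hq2
  refine ⟨b, ?_, ?_⟩
  · intro i
    have := congrArg Subtype.val (hb1 i)
    rw [hΨ] at this
    exact this
  · intro v hv
    have hvmem : v ∈ Vss := by
      rw [hVssdef, Submodule.mem_iInf]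
      intro n
      apply Submodule.subset_span
      exact ⟨v, Function.iterate_fixed hv (n + 1)⟩
    have hfix : Ψ ⟨v, hvmem⟩ = ⟨v, hvmem⟩ := Subtype.ext (by rw [hΨ]; exact hv)
    refine ⟨fun i => b.repr ⟨v, hvmem⟩ i, fun i => hb2 _ hfix i, ?_⟩
    have h1 := congrArg Subtype.val (b.sum_repr ⟨v, hvmem⟩)
    rw [Submodule.coe_sum] at h1
    simp only [Submodule.coe_smul] at h1
    exact h1.symm

end ss

section final

variable (k : Type u) [Field k] [IsSepClosed k] (p : ℕ)
    [Fact p.Prime] [CharP k p] (r : ℕ) (hr : 0 < r) (V : Type v) [AddCommGroup V] [Module k V]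
    [FiniteDimensional k V] (φ : V →+ V) (hφ : ∀ (c : k) (v : V), φ (c • v) = c ^ (p ^ r) • φ v)

include hr hφ

theorem main_iterate (hss : Submodule.span k (Set.range φ) = ⊤) (n : ℕ) (v : V) :
    φ^[n] v = v ↔ ∃ (s : Finset V) (c : V → k), (∀ w ∈ s, φ w = w) ∧
      (∀ w ∈ s, c w ^ ((p ^ r) ^ n) = c w) ∧ v = ∑ w ∈ s, c w • w := by
  haveI : ExpChar k p := ExpChar.prime Fact.out
  let σ : k →+* k := iterateFrobenius k p r
  have hσ : ∀ c, σ c = c ^ (p ^ r) := fun c => rfl
  let Φ : V →ₛₗ[σ] V :=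
    { toFun := φ
      map_add' := φ.map_add
      map_smul' := by
        intro c v
        show φ (c • v) = σ c • φ v
        rw [hφ, hσ] }
  have hss' : Submodule.span k (Set.range Φ) = ⊤ := by
    have : Set.range Φ = Set.range φ := rfl
    rw [this]; exact hss
  have hp : (p : k) = 0 := CharP.cast_eq_zero k p
  have hq : ((p ^ r : ℕ) : k) = 0 := by
    rw [Nat.cast_pow, hp, zero_pow hr.ne']
  have hq2 : 2 ≤ p ^ r := by
    calc 2 ≤ p := (Fact.out : p.Prime).two_le
      _ = p ^ 1 := (pow_one p).symm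
      _ ≤ p ^ r := Nat.pow_le_pow_right (Fact.out : p.Prime).pos hr
  exact fixed_iterate_iff hσ Φ hss' hq hq2 n v

theorem main_ss :
    let Vss : Submodule k V := ⨅ n : ℕ, Submodule.span k (Set.range (φ^[n + 1]))
    ∃ b : Module.Basis (Fin (Module.finrank k ↥Vss)) k ↥Vss, (∀ i, φ (b i : V) = (b i : V)) ∧
      ∀ v : V, φ v = v → ∃ c : Fin (Module.finrank k ↥Vss) → k,
        (∀ i, c i ^ (p ^ r) = c i) ∧ v = ∑ i, c i • (b i : V) := by
  haveI : ExpChar k p := ExpChar.prime Fact.out
  let σ : k →+* k := iterateFrobenius k p r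
  have hσ : ∀ c, σ c = c ^ (p ^ r) := fun c => rfl
  let Φ : V →ₛₗ[σ] V :=
    { toFun := φ
      map_add' := φ.map_add
      map_smul' := by
        intro c v
        show φ (c • v) = σ c • φ v
        rw [hφ, hσ] }
  have hp : (p : k) = 0 := CharP.cast_eq_zero k p
  have hq : ((p ^ r : ℕ) : k) = 0 := by
    rw [Nat.cast_pow, hp, zero_pow hr.ne']
  have hq2 : 2 ≤ p ^ r := by
    calc 2 ≤ p := (Fact.out : p.Prime).two_le
      _ = p ^ 1 := (pow_one p).symm
      _ ≤ p ^ r := Nat.pow_le_pow_right (Fact.out : p.Prime).pos hr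
  exact semisimple_part hσ Φ hq hq2

end final

end Groth.Agent.Lib.Helper24.QLin
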